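import Groth.Agent.TrivDefAutLib.Basic
import Groth.Prelude.Def_Coh

/-! The group of infinitesimal automorphisms of a trivial lifting. -/

set_option autoImplicit false
set_option backward.isDefEq.respectTransparency false
set_option linter.style.haveILetI false

universe u

open CategoryTheory CategoryTheory.Limits AlgebraicGeometry TopologicalSpace Opposite
open Groth.Agent.PullbackMod Groth.Agent.FormalSys

noncomputable section

namespace Groth.Agent.TrivDefAutLib

variable {k : Type u} [Field k] {X₀ : Scheme.{u}} {x : X₀ ⟶ Spec (CommRingCat.of k)} {Xε : Scheme.{u}}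
  (q : Xε ⟶ X₀) (p : Xε ⟶ Spec (CommRingCat.of (DualNumber k)))

/-- Multiplication by the parameter. -/
abbrev mulEps (M : Xε.Modules) : M ⟶ M := Formal.smulModΓ M (epsG p)

theorem mulEps_natural {M N : Xε.Modules} (f : M ⟶ N) : mulEps p M ≫ f = f ≫ mulEps p N :=
  hom_ext_affine fun U _ m => Scheme.Modules.Hom.app_smul f _ m

theorem mulEps_mulEps (M : Xε.Modules) : mulEps p M ≫ mulEps p M = 0 :=
  hom_ext_affine fun U _ m => by
    show Xε.presheaf.map (homOfLE (le_top : U ≤ ⊤)).op (epsG p) • Xε.presheaf.map (homOfLE (le_top : U ≤ ⊤)).op (epsG p) • m = 0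
    rw [← mul_smul]
    rw [← map_mul, epsG_sq, map_zero, zero_smul]

variable (E₀ : X₀.Modules)

/-- The comparison map into the lifting. -/
def amap : E₀ ⟶ (Scheme.Modules.pushforward q).obj ((Scheme.Modules.pullback q).obj E₀) :=
  (Scheme.Modules.pullbackPushforwardAdjunction q).homEquiv _ _ (mulEps p ((Scheme.Modules.pullback q).obj E₀))

theorem amap_app_res {V : X₀.Opens} {W : Xε.Opens} (e : W ≤ q ⁻¹ᵁ V) (n : Γ(E₀, V)) :
    ((Scheme.Modules.pullback q).obj E₀).presheaf.map (homOfLE e).op ((amap q p E₀).app V n) =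
      Xε.presheaf.map (homOfLE (le_top : W ≤ ⊤)).op (epsG p) • pullMap q E₀ e n := by
  rw [amap, Adjunction.homEquiv_unit]
  exact (congr($((mulEps p ((Scheme.Modules.pullback q).obj E₀)).mapPresheaf.naturality (homOfLE e).op)
    (((Scheme.Modules.pullbackPushforwardAdjunction q).unit.app E₀).app V n))).symm

theorem smulModΓ_zero' (M : X₀.Modules) : Formal.smulModΓ M (0 : Γ(X₀, ⊤)) = 0 :=
  hom_ext_affine fun U _ m => by
    show X₀.presheaf.map (homOfLE (le_top : U ≤ ⊤)).op (0 : Γ(X₀, ⊤)) • m = 0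
    rw [map_zero, zero_smul]

variable {q p} {E₀} (hsq : IsPullback q p x (Spec.map (CommRingCat.ofHom (algebraMap k (DualNumber k)))))
  (hE₀ : Coh.IsQCoh E₀)

include hsq hE₀ in
theorem mono_amap : Mono (amap q p E₀) := by
  haveI := hE₀
  refine Preadditive.mono_of_isZero_kernel _ ((IsZero.iff_id_eq_zero _).2 ?_)
  rw [← cancel_mono (kernel.ι (amap q p E₀)), Category.id_comp, zero_comp]
  refine hom_ext_affine fun V hV z => ?_
  let W : Xε.Opens := q ⁻¹ᵁ V ⊓ p ⁻¹ᵁ ⊤
  let M := (Scheme.Modules.pullback q).obj E₀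
  letI : Algebra Γ(X₀, V) Γ(Xε, W) := (q.appLE V W inf_le_left).hom.toAlgebra
  letI := Module.compHom Γ(M, W) (q.appLE V W inf_le_left).hom
  haveI : IsScalarTower Γ(X₀, V) Γ(Xε, W) Γ(M, W) := .of_algebraMap_smul fun _ _ => rfl
  have hbc := isBaseChange_pullMapL q E₀ hV (isAffine_piece hsq hV) (inf_le_left : W ≤ q ⁻¹ᵁ V)
  obtain ⟨θ, hθ, hθe⟩ := exists_theta hsq hV
  refine eq_zero_of_smul_eq_zero θ hθ hθe hbc ?_
  refine (amap_app_res q p E₀ (inf_le_left : W ≤ q ⁻¹ᵁ V) ((kernel.ι (amap q p E₀)).app V z)).symm.trans ?_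
  rw [← app_comp_apply, kernel.condition]
  exact map_zero _

variable {i : X₀ ⟶ Xε} (hiq : i ≫ q = 𝟙 X₀)
  (hip : i ≫ p = x ≫ Spec.map (CommRingCat.ofHom (TrivSqZeroExt.fstHom k k k).toRingHom))

include hsq hE₀ hiq hip in
theorem factors (δ : (Scheme.Modules.pullback q).obj E₀ ⟶ (Scheme.Modules.pullback q).obj E₀)
    (hδ : (Scheme.Modules.pullback i).map δ = 0) :
    (Scheme.Modules.pullbackPushforwardAdjunction q).homEquiv _ _ δ ≫ cokernel.π (amap q p E₀) = 0 := by
  haveI := hE₀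
  refine hom_ext_affine fun V hV n₁ => ?_
  let M := (Scheme.Modules.pullback q).obj E₀
  haveI : Coh.IsQCoh M := isQCoh_pullback q E₀
  let D := (Scheme.Modules.pullbackPushforwardAdjunction q).homEquiv _ _ δ
  let W : Xε.Opens := q ⁻¹ᵁ V ⊓ p ⁻¹ᵁ ⊤
  have hle : W ≤ q ⁻¹ᵁ V := inf_le_left
  have hle' : q ⁻¹ᵁ V ≤ W := le_inf le_rfl le_top
  have hVW : V ≤ i ⁻¹ᵁ W := fun z hz => ⟨show (i ≫ q) z ∈ V by rw [hiq]; exact hz, trivial⟩
  have hW := isAffine_piece hsq hV
  letI : Algebra Γ(X₀, V) Γ(Xε, W) := (q.appLE V W hle).hom.toAlgebra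
  letI := Module.compHom Γ(M, W) (q.appLE V W hle).hom
  haveI : IsScalarTower Γ(X₀, V) Γ(Xε, W) Γ(M, W) := .of_algebraMap_smul fun _ _ => rfl
  have hbc := isBaseChange_pullMapL q E₀ hV hW hle
  let εW := Xε.presheaf.map (homOfLE (le_top : W ≤ ⊤)).op (epsG p)
  let m : Γ(M, W) := M.presheaf.map (homOfLE hle).op (D.app V n₁)
  obtain ⟨n, n', hm⟩ := exists_eq_add (eps := εW) (by rw [← map_mul, epsG_sq, map_zero])
    (fun s => exists_split hsq hV s) hbc m
  -- the reduction
  let T := Γ(X₀, V)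
  letI : Algebra Γ(Xε, W) T := (i.appLE W V hVW).hom.toAlgebra
  letI := Module.compHom Γ((Scheme.Modules.pullback i).obj M, V) (i.appLE W V hVW).hom
  haveI : IsScalarTower Γ(Xε, W) T Γ((Scheme.Modules.pullback i).obj M, V) := .of_algebraMap_smul fun _ _ => rfl
  have hbc' := isBaseChange_pullMapL i M hW hV hVW
  have hred : ∀ r : Γ(X₀, V), i.appLE W V hVW (q.appLE V W hle r) = r := fun r => by
    show (q.appLE V W hle ≫ i.appLE W V hVW) r = r
    rw [Scheme.Hom.appLE_comp_appLE]
    simp only [hiq]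
    rw [Scheme.Hom.appLE, Scheme.Hom.id_app]
    exact congr($(X₀.presheaf.map_id (op V)) r)
  have hzero : pullMap i M hVW m = 0 := by
    let adj := Scheme.Modules.pullbackPushforwardAdjunction i
    have h1 : δ ≫ adj.unit.app M = 0 := by
      have h2 := adj.unit.naturality δ
      simp only [Functor.id_map, Functor.comp_map, hδ, Functor.map_zero, comp_zero] at h2
      exact h2
    have h3 : m = δ.app W (pullMap q E₀ hle n₁) := by
      show M.presheaf.map _ (D.app V n₁) = _
      rw [show D = _ from Adjunction.homEquiv_unit _ _ _ _]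
      exact (congr($(δ.mapPresheaf.naturality (homOfLE hle).op)
        (((Scheme.Modules.pullbackPushforwardAdjunction q).unit.app E₀).app V n₁))).symm
    rw [h3]
    show _ = (0 : Γ((Scheme.Modules.pullback i).obj M, V))
    refine (congrArg (((Scheme.Modules.pullback i).obj M).presheaf.map (homOfLE hVW).op)
      (show (adj.unit.app M).app W (δ.app W (pullMap q E₀ hle n₁)) = 0 from ?_)).trans (map_zero _)
    show (δ ≫ adj.unit.app M).app W _ = 0
    rw [h1]
    rfl
  have hn : n = 0 := by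
    letI := Module.compHom Γ(E₀, V) (i.appLE W V hVW).hom
    haveI : IsScalarTower Γ(Xε, W) T Γ(E₀, V) := .of_algebraMap_smul fun _ _ => rfl
    haveI : IsScalarTower Γ(X₀, V) Γ(Xε, W) Γ(E₀, V) := .of_algebraMap_smul fun r y => by
      show i.appLE W V hVW (q.appLE V W hle r) • y = r • y
      rw [hred]
    let r := hbc.lift (LinearMap.id : Γ(E₀, V) →ₗ[Γ(X₀, V)] Γ(E₀, V))
    have h1 : r m = 0 := by
      rw [← hbc'.lift_eq r m, show pullMapL i M hVW m = 0 from hzero, map_zero]
    rw [hm, map_add, map_smul, hbc.lift_eq, hbc.lift_eq, LinearMap.id_apply, LinearMap.id_apply] at h1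
    have hε : i.appLE W V hVW εW = 0 := by
      show (Xε.presheaf.map (homOfLE le_top).op ≫ i.appLE W V hVW) (epsG p) = 0
      rw [Scheme.Hom.map_appLE]
      have h4 : i.appLE ⊤ V le_top (epsG p) = X₀.presheaf.map (homOfLE le_top).op (i.appTop (epsG p)) := rfl
      rw [h4, appTop_epsG hip, map_zero]
    have h2 : n + i.appLE W V hVW εW • n' = 0 := h1
    rwa [hε, zero_smul, add_zero] at h2
  have hD : D.app V n₁ = (amap q p E₀).app V n' := by
    apply (res_bijective M hle hle').1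
    rw [amap_app_res]
    show m = _
    rw [hm, hn, map_zero, zero_add]
    rfl
  show (cokernel.π (amap q p E₀)).app V (D.app V n₁) = 0
  rw [hD, ← app_comp_apply, cokernel.condition]
  rfl

include hsq hE₀ hiq hip in
theorem exists_aut_equiv :
    ∃ e : {φ : (Scheme.Modules.pullback q).obj E₀ ≅ (Scheme.Modules.pullback q).obj E₀ //
            (Scheme.Modules.pullback i).map φ.hom = 𝟙 _} ≃ (E₀ ⟶ E₀),
      ∀ φ ψ χ : {φ : (Scheme.Modules.pullback q).obj E₀ ≅ (Scheme.Modules.pullback q).obj E₀ //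
            (Scheme.Modules.pullback i).map φ.hom = 𝟙 _},
        φ.1 ≪≫ ψ.1 = χ.1 → e χ = e φ + e ψ := by
  haveI := hE₀
  haveI := mono_amap hsq hE₀
  let adj := Scheme.Modules.pullbackPushforwardAdjunction q
  let M := (Scheme.Modules.pullback q).obj E₀
  haveI : Coh.IsQCoh M := isQCoh_pullback q E₀
  let δ : (E₀ ⟶ E₀) → (M ⟶ M) := fun u => (Scheme.Modules.pullback q).map u ≫ mulEps p M
  have hδadd : ∀ u v, δ (u + v) = δ u + δ v := fun u v => by
    show (Scheme.Modules.pullback q).map (u + v) ≫ _ = _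
    rw [Functor.map_add, Preadditive.add_comp]
  have hδδ : ∀ u v, δ u ≫ δ v = 0 := fun u v => by
    show ((Scheme.Modules.pullback q).map u ≫ mulEps p M) ≫ (Scheme.Modules.pullback q).map v ≫ mulEps p M = 0
    rw [Category.assoc, ← Category.assoc (mulEps p M), mulEps_natural, Category.assoc, mulEps_mulEps,
      comp_zero, comp_zero]
  have hδi : ∀ u, (Scheme.Modules.pullback i).map (δ u) = 0 := fun u => by
    rw [Functor.map_comp, BCLib.pullback_map_smulModΓ, appTop_epsG hip, smulModΓ_zero', comp_zero]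
  have hδh : ∀ u, adj.homEquiv _ _ (δ u) = u ≫ amap q p E₀ := fun u => adj.homEquiv_naturality_left _ _
  have hδinj : Function.Injective δ := fun u v h => by
    rw [← cancel_mono (amap q p E₀), ← hδh, ← hδh, h]
  let mk : (E₀ ⟶ E₀) → {φ : M ≅ M // (Scheme.Modules.pullback i).map φ.hom = 𝟙 _} := fun u =>
    ⟨{ hom := 𝟙 M + δ u
       inv := 𝟙 M - δ u
       hom_inv_id := by simp [Preadditive.add_comp, Preadditive.comp_sub, hδδ]
       inv_hom_id := by simp [Preadditive.sub_comp, Preadditive.comp_add, hδδ] },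
      by rw [Functor.map_add, CategoryTheory.Functor.map_id, hδi, add_zero]⟩
  have hmk : Function.Bijective mk := by
    refine ⟨fun u v h => hδinj (add_left_cancel (congrArg (fun φ => φ.1.hom) h)), fun φ => ?_⟩
    have h0 : (Scheme.Modules.pullback i).map (φ.1.hom - 𝟙 M) = 0 := by
      rw [Functor.map_sub, φ.2, CategoryTheory.Functor.map_id, sub_self]
    let u := Abelian.monoLift (amap q p E₀) (adj.homEquiv _ _ (φ.1.hom - 𝟙 M)) (factors hsq hE₀ hiq hip _ h0)
    refine ⟨u, Subtype.ext (Iso.ext ?_)⟩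
    show 𝟙 M + δ u = φ.1.hom
    rw [show δ u = φ.1.hom - 𝟙 M from (adj.homEquiv _ _).injective
      ((hδh u).trans (Abelian.monoLift_comp _ _ _)), add_sub_cancel]
  let e := (Equiv.ofBijective mk hmk).symm
  refine ⟨e, fun φ ψ χ h => ?_⟩
  obtain ⟨u, rfl⟩ := hmk.2 φ
  obtain ⟨v, rfl⟩ := hmk.2 ψ
  obtain ⟨w, rfl⟩ := hmk.2 χ
  have he : ∀ u, e (mk u) = u := fun u => (Equiv.ofBijective mk hmk).symm_apply_apply u
  rw [he, he, he]
  refine hδinj ?_
  have hh : (𝟙 M + δ u) ≫ (𝟙 M + δ v) = 𝟙 M + δ w := congrArg Iso.hom h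
  rw [Preadditive.add_comp, Preadditive.comp_add, Preadditive.comp_add, hδδ, add_zero, Category.id_comp,
    Category.id_comp, Category.comp_id, add_assoc] at hh
  rw [hδadd, add_comm]
  exact (add_left_cancel hh).symm

end Groth.Agent.TrivDefAutLib
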