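import Groth.Agent.PullbackMod.Sections
import Groth.Agent.PullbackMod.Flat
import Groth.Agent.BCLib.TensorFun
import Groth.Agent.FormalSysLib.Sections
import Groth.Prelude.Def_Formal
import Mathlib.Algebra.DualNumber

/-! Endomorphisms of a trivial first-order lifting of a quasi-coherent module. -/

set_option autoImplicit false
set_option backward.isDefEq.respectTransparency false
set_option linter.style.haveILetI false

universe u

open CategoryTheory CategoryTheory.Limits AlgebraicGeometry TopologicalSpace Opposite TensorProduct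
open Groth.Agent.PullbackMod Groth.Agent.FormalSys

noncomputable section

namespace Groth.Agent.TrivDefAutLib

theorem injective_of_isBaseChange_bij {R T N P : Type u} [CommRing R] [CommRing T] [Algebra R T]
    [AddCommGroup N] [Module R N] [AddCommGroup P] [Module R P] [Module T P] [IsScalarTower R T P]
    (hbij : Function.Bijective (algebraMap R T)) {f : N →ₗ[R] P} (hf : IsBaseChange T f) : Function.Injective f := by
  let e : R ≃ₗ[R] T := LinearEquiv.ofBijective (Algebra.linearMap R T) hbij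
  let E : N ≃ₗ[R] T ⊗[R] N := (TensorProduct.lid R N).symm ≪≫ₗ TensorProduct.congr e (LinearEquiv.refl R N)
  have : ∀ n, f n = hf.equiv (E n) := fun n => by
    show f n = hf.equiv (e 1 ⊗ₜ[R] n)
    rw [show e 1 = 1 from map_one (algebraMap R T), hf.equiv_tmul, one_smul]
  intro a b h
  rw [this, this] at h
  exact E.injective (hf.equiv.injective h)

section Alg

variable {R S N P : Type u} [CommRing R] [CommRing S] [Algebra R S] [AddCommGroup N] [Module R N]
  [AddCommGroup P] [Module R P] [Module S P] [IsScalarTower R S P]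

theorem eq_zero_of_smul_eq_zero (θ : S →+* DualNumber R)
    (hθ : ∀ r, θ (algebraMap R S r) = TrivSqZeroExt.inl r) {eps : S} (heps : θ eps = DualNumber.eps)
    {f : N →ₗ[R] P} (hf : IsBaseChange S f) {n : N} (h : eps • f n = 0) : n = 0 := by
  letI : Module S (DualNumber R ⊗[R] N) := Module.compHom _ θ
  haveI : IsScalarTower R S (DualNumber R ⊗[R] N) := IsScalarTower.of_algebraMap_smul fun r y => by
    show θ (algebraMap R S r) • y = r • y
    rw [hθ, ← algebraMap_smul (DualNumber R) r y]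
    rfl
  let l : N →ₗ[R] DualNumber R ⊗[R] N := (TensorProduct.mk R (DualNumber R) N) 1
  have h1 : (θ eps) • l n = 0 := by
    have e := congrArg (hf.lift l) h
    rw [map_zero, map_smul, hf.lift_eq] at e
    exact e
  rw [heps, show (DualNumber.eps : DualNumber R) • l n = (DualNumber.eps : DualNumber R) ⊗ₜ[R] n by
    show (DualNumber.eps : DualNumber R) • ((1 : DualNumber R) ⊗ₜ[R] n) = _
    rw [TensorProduct.smul_tmul', smul_eq_mul, mul_one]] at h1
  have h2 := congrArg (fun y => TensorProduct.lid R N ((TrivSqZeroExt.sndHom R R).rTensor N y)) h1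
  simpa using h2

theorem exists_eq_add {eps : S} (heps : eps * eps = 0)
    (hsplit : ∀ s : S, ∃ a b, s = algebraMap R S a + algebraMap R S b * eps)
    {f : N →ₗ[R] P} (hf : IsBaseChange S f) (m : P) : ∃ n n', m = f n + eps • f n' := by
  induction m using hf.inductionOn with
  | zero => exact ⟨0, 0, by simp⟩
  | tmul n => exact ⟨n, 0, by simp⟩
  | smul s m ih =>
    obtain ⟨n, n', rfl⟩ := ih
    obtain ⟨a, b, rfl⟩ := hsplit s
    refine ⟨a • n, a • n' + b • n, ?_⟩
    rw [map_smul, map_add, map_smul, map_smul, ← algebraMap_smul S a (f n), ← algebraMap_smul S a (f n'),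
      ← algebraMap_smul S b (f n)]
    simp only [smul_add, add_smul, ← mul_smul, add_mul]
    rw [show algebraMap R S b * eps * eps = 0 by rw [mul_assoc, heps, mul_zero], zero_smul, add_zero,
      mul_comm (algebraMap R S b) eps, mul_comm (algebraMap R S a) eps]
    abel
  | add m₁ m₂ ih₁ ih₂ =>
    obtain ⟨n₁, n₁', rfl⟩ := ih₁
    obtain ⟨n₂, n₂', rfl⟩ := ih₂
    exact ⟨n₁ + n₂, n₁' + n₂', by simp [smul_add]; abel⟩

end Alg

section Sch

variable {k : Type u} [Field k] {X₀ : Scheme.{u}} {x : X₀ ⟶ Spec (CommRingCat.of k)} {Xε : Scheme.{u}}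
  {q : Xε ⟶ X₀} {p : Xε ⟶ Spec (CommRingCat.of (DualNumber k))}
  (hsq : IsPullback q p x (Spec.map (CommRingCat.ofHom (algebraMap k (DualNumber k)))))

/-- The parameter. -/
def epsG (p : Xε ⟶ Spec (CommRingCat.of (DualNumber k))) : Γ(Xε, ⊤) :=
  p.appTop ((Scheme.ΓSpecIso _).inv (DualNumber.eps : DualNumber k))

theorem epsG_sq : epsG p * epsG p = 0 := by
  rw [epsG, ← map_mul, ← map_mul, DualNumber.eps_mul_eps, map_zero, map_zero]

theorem appTop_epsG {i : X₀ ⟶ Xε}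
    (hip : i ≫ p = x ≫ Spec.map (CommRingCat.ofHom (TrivSqZeroExt.fstHom k k k).toRingHom)) :
    i.appTop (epsG p) = 0 := by
  have h := congrArg (fun m => Scheme.Hom.appTop m ((Scheme.ΓSpecIso _).inv (DualNumber.eps : DualNumber k))) hip
  simp only [Scheme.Hom.comp_appTop, CommRingCat.comp_apply] at h
  refine h.trans ?_
  rw [← CommRingCat.comp_apply (Scheme.ΓSpecIso _).inv, ← Scheme.ΓSpecIso_inv_naturality]
  show x.appTop ((Scheme.ΓSpecIso _).inv (TrivSqZeroExt.fst (DualNumber.eps : DualNumber k))) = 0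
  rw [DualNumber.fst_eps, map_zero, map_zero]

include hsq in
theorem isAffine_piece {V : X₀.Opens} (hV : IsAffineOpen V) : IsAffineOpen (q ⁻¹ᵁ V ⊓ p ⁻¹ᵁ ⊤) :=
  (isPushout_appLE hsq (isAffineOpen_top _) hV (isAffineOpen_top _) le_top le_top).1

include hsq in
theorem exists_split {V : X₀.Opens} (hV : IsAffineOpen V) (s : Γ(Xε, q ⁻¹ᵁ V ⊓ p ⁻¹ᵁ ⊤)) :
    ∃ a b, s = q.appLE V (q ⁻¹ᵁ V ⊓ p ⁻¹ᵁ ⊤) inf_le_left a +
      q.appLE V (q ⁻¹ᵁ V ⊓ p ⁻¹ᵁ ⊤) inf_le_left b * Xε.presheaf.map (homOfLE le_top).op (epsG p) := by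
  let g := Spec.map (CommRingCat.ofHom (algebraMap k (DualNumber k)))
  let W : Xε.Opens := q ⁻¹ᵁ V ⊓ p ⁻¹ᵁ ⊤
  obtain ⟨-, hpo⟩ := isPushout_appLE hsq (isAffineOpen_top _) hV (isAffineOpen_top _)
    (le_top : V ≤ x ⁻¹ᵁ ⊤) (le_top : (⊤ : (Spec (CommRingCat.of (DualNumber k))).Opens) ≤ g ⁻¹ᵁ ⊤)
  letI : Algebra Γ(Spec (CommRingCat.of k), ⊤) Γ(X₀, V) := (x.appLE ⊤ V le_top).hom.toAlgebra
  letI : Algebra Γ(Spec (CommRingCat.of k), ⊤) Γ(Spec (CommRingCat.of (DualNumber k)), ⊤) :=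
    (g.appLE ⊤ ⊤ le_top).hom.toAlgebra
  letI : Algebra Γ(X₀, V) Γ(Xε, W) := (q.appLE V W inf_le_left).hom.toAlgebra
  letI : Algebra Γ(Spec (CommRingCat.of (DualNumber k)), ⊤) Γ(Xε, W) := (p.appLE ⊤ W inf_le_right).hom.toAlgebra
  letI : Algebra Γ(Spec (CommRingCat.of k), ⊤) Γ(Xε, W) :=
    ((q.appLE V W inf_le_left).hom.comp (x.appLE ⊤ V le_top).hom).toAlgebra
  haveI : IsScalarTower Γ(Spec (CommRingCat.of k), ⊤) Γ(X₀, V) Γ(Xε, W) := .of_algebraMap_eq fun _ => rfl
  haveI : IsScalarTower Γ(Spec (CommRingCat.of k), ⊤) Γ(Spec (CommRingCat.of (DualNumber k)), ⊤) Γ(Xε, W) :=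
    .of_algebraMap_eq' (by
      show ((x.appLE ⊤ V le_top) ≫ q.appLE V W inf_le_left).hom =
        ((g.appLE ⊤ ⊤ le_top) ≫ p.appLE ⊤ W inf_le_right).hom
      simp only [g, Scheme.Hom.appLE_comp_appLE, hsq.w])
  haveI := hpo
  have hb := (Algebra.IsPushout.symm hpo).out
  let eV := Xε.presheaf.map (homOfLE (le_top : W ≤ ⊤)).op (epsG p)
  have hc : ∀ c, ∃ a b, p.appLE ⊤ W inf_le_right c =
      q.appLE V W inf_le_left a + q.appLE V W inf_le_left b * eV := fun c => by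
    obtain ⟨d, rfl⟩ : ∃ d, (Scheme.ΓSpecIso (CommRingCat.of (DualNumber k))).inv d = c :=
      (ConcreteCategory.bijective_of_isIso _).2 c
    have hk : ∀ r : k, p.appLE ⊤ W inf_le_right ((Scheme.ΓSpecIso _).inv (algebraMap k (DualNumber k) r)) =
        q.appLE V W inf_le_left (x.appLE ⊤ V le_top ((Scheme.ΓSpecIso _).inv r)) := fun r => by
      have h1 : (Scheme.ΓSpecIso _).inv (algebraMap k (DualNumber k) r) =
          g.appLE ⊤ ⊤ le_top ((Scheme.ΓSpecIso (CommRingCat.of k)).inv r) := by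
        have := congr($(Scheme.ΓSpecIso_inv_naturality (CommRingCat.ofHom (algebraMap k (DualNumber k)))) r)
        exact this.trans (congr($(Scheme.Hom.app_eq_appLE g (U := ⊤)) ((Scheme.ΓSpecIso (CommRingCat.of k)).inv r)))
      rw [h1]
      show (g.appLE ⊤ ⊤ le_top ≫ p.appLE ⊤ W inf_le_right) _ = (x.appLE ⊤ V le_top ≫ q.appLE V W inf_le_left) _
      simp only [Scheme.Hom.appLE_comp_appLE, g, hsq.w]
    have hd : d = algebraMap k (DualNumber k) (TrivSqZeroExt.fst d) +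
        algebraMap k (DualNumber k) (TrivSqZeroExt.snd d) * DualNumber.eps := by
      refine TrivSqZeroExt.ext ?_ ?_ <;> simp [TrivSqZeroExt.algebraMap_eq_inl]
    refine ⟨x.appLE ⊤ V le_top ((Scheme.ΓSpecIso _).inv (TrivSqZeroExt.fst d)),
      x.appLE ⊤ V le_top ((Scheme.ΓSpecIso _).inv (TrivSqZeroExt.snd d)), ?_⟩
    conv_lhs => rw [hd]
    rw [map_add, map_add, map_mul, map_mul, hk, hk]
    rfl
  induction s using hb.inductionOn with
  | zero => exact ⟨0, 0, by rw [map_zero, zero_mul, add_zero]⟩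
  | tmul c => exact hc c
  | smul r s ih =>
    obtain ⟨a, b, rfl⟩ := ih
    refine ⟨r * a, r * b, ?_⟩
    show q.appLE V W inf_le_left r * _ = _
    rw [map_mul, map_mul]; ring
  | add s₁ s₂ ih₁ ih₂ =>
    obtain ⟨a₁, b₁, rfl⟩ := ih₁
    obtain ⟨a₂, b₂, rfl⟩ := ih₂
    exact ⟨a₁ + a₂, b₁ + b₂, by rw [map_add, map_add]; ring⟩

include hsq in
theorem exists_theta {V : X₀.Opens} (hV : IsAffineOpen V) :
    ∃ θ : Γ(Xε, q ⁻¹ᵁ V ⊓ p ⁻¹ᵁ ⊤) →+* DualNumber Γ(X₀, V),
      (∀ r, θ (q.appLE V _ inf_le_left r) = TrivSqZeroExt.inl r) ∧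
      θ (Xε.presheaf.map (homOfLE le_top).op (epsG p)) = DualNumber.eps := by
  let R := Γ(X₀, V)
  let D := CommRingCat.of (DualNumber R)
  letI : Algebra k R := ((Scheme.ΓSpecIso (CommRingCat.of k)).inv ≫ x.appLE ⊤ V le_top).hom.toAlgebra
  let inl : R ⟶ D := CommRingCat.ofHom (TrivSqZeroExt.inlHom R R)
  let ψa : DualNumber k →ₐ[k] DualNumber R :=
    DualNumber.lift ⟨(Algebra.ofId k (DualNumber R), DualNumber.eps), DualNumber.eps_mul_eps, fun _ => Commute.all _ _⟩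
  let ψ : CommRingCat.of (DualNumber k) ⟶ D := CommRingCat.ofHom ψa.toRingHom
  have hψ : ψ (DualNumber.eps : DualNumber k) = (DualNumber.eps : DualNumber R) := DualNumber.lift_apply_eps _
  have hin : hV.fromSpec.appLE V ⊤ hV.fromSpec_preimage_self.ge = (Scheme.ΓSpecIso R).inv :=
    CommRingCat.hom_ext (RingHom.ext fun r => res_app_fromSpec hV r)
  have hfx : hV.fromSpec ≫ x = Spec.map (CommRingCat.ofHom (algebraMap k R)) := by
    refine ext_of_isAffine ?_
    have h0 : (hV.fromSpec ≫ x).appTop = x.appLE ⊤ V le_top ≫ (Scheme.ΓSpecIso R).inv := by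
      rw [← hin, Scheme.Hom.appLE_comp_appLE]
      exact Scheme.Hom.app_eq_appLE (hV.fromSpec ≫ x) (U := ⊤)
    rw [h0]
    rw [← cancel_epi (Scheme.ΓSpecIso (CommRingCat.of k)).inv, ← Scheme.ΓSpecIso_inv_naturality, ← Category.assoc]
    rfl
  have hw : (Spec.map inl ≫ hV.fromSpec) ≫ x =
      Spec.map ψ ≫ Spec.map (CommRingCat.ofHom (algebraMap k (DualNumber k))) := by
    rw [Category.assoc, hfx, ← Spec.map_comp, ← Spec.map_comp]
    congr 1
    exact CommRingCat.hom_ext (RingHom.ext fun r => (ψa.commutes r).symm)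
  let τ := hsq.lift (Spec.map inl ≫ hV.fromSpec) (Spec.map ψ) hw
  have hτq : τ ≫ q = Spec.map inl ≫ hV.fromSpec := hsq.lift_fst _ _ _
  have hτp : τ ≫ p = Spec.map ψ := hsq.lift_snd _ _ _
  have e : (⊤ : (Spec D).Opens) ≤ τ ⁻¹ᵁ (q ⁻¹ᵁ V ⊓ p ⁻¹ᵁ ⊤) := by
    intro z _
    refine ⟨?_, trivial⟩
    show (τ ≫ q) z ∈ V
    rw [hτq, Scheme.Hom.comp_apply]
    exact hV.fromSpec_preimage_self.ge trivial
  refine ⟨((τ.appLE _ ⊤ e) ≫ (Scheme.ΓSpecIso D).hom).hom, fun r => ?_, ?_⟩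
  · show (Scheme.ΓSpecIso D).hom ((q.appLE V _ inf_le_left ≫ τ.appLE _ ⊤ e) r) = _
    rw [Scheme.Hom.appLE_comp_appLE]
    simp only [hτq]
    rw [← Scheme.Hom.appLE_comp_appLE (Spec.map inl) hV.fromSpec V ⊤ ⊤ hV.fromSpec_preimage_self.ge le_top, hin]
    have h := congr($(Scheme.ΓSpecIso_inv_naturality inl) r)
    rw [Scheme.Hom.appLE, ← CommRingCat.comp_apply]
    show ((Scheme.ΓSpecIso R).inv ≫ ((Spec.map inl).app ⊤ ≫ (Spec D).presheaf.map (homOfLE _).op) ≫ (Scheme.ΓSpecIso D).hom) r = _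
    simp only [homOfLE_refl, op_id, CategoryTheory.Functor.map_id, Category.comp_id]
    show (Scheme.ΓSpecIso D).hom ((Spec.map inl).appTop ((Scheme.ΓSpecIso R).inv r)) = _
    rw [← CommRingCat.comp_apply (Scheme.ΓSpecIso R).inv, ← h, CommRingCat.comp_apply]
    exact congr($((Scheme.ΓSpecIso D).inv_hom_id) (inl r))
  · show (Scheme.ΓSpecIso D).hom ((Xε.presheaf.map (homOfLE le_top).op ≫ τ.appLE _ ⊤ e) (p.appTop _)) = _
    rw [Scheme.Hom.map_appLE]
    have h1 : τ.appLE ⊤ ⊤ le_top = τ.appTop := (Scheme.Hom.app_eq_appLE τ (U := ⊤)).symm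
    rw [h1, ← CommRingCat.comp_apply p.appTop, ← Scheme.Hom.comp_appTop, hτp]
    have h := congr($(Scheme.ΓSpecIso_inv_naturality ψ) (DualNumber.eps : DualNumber k))
    rw [← CommRingCat.comp_apply (Scheme.ΓSpecIso _).inv, ← h, CommRingCat.comp_apply]
    exact (congr($((Scheme.ΓSpecIso D).inv_hom_id) (ψ DualNumber.eps))).trans hψ

end Sch

end Groth.Agent.TrivDefAutLib
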